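import Groth.Agent.Lib.CechHyper25.Exact
import Groth.Agent.Lib.CechTot19.Cech
import Mathlib.Algebra.Homology.SingleHomology
import Mathlib.Algebra.Homology.Embedding.ExtendHomology

/-! # The augmentation of the Cech complex of a cover -/

set_option autoImplicit false
set_option linter.all false
set_option backward.isDefEq.respectTransparency false
set_option backward.isDefEq.respectTransparency.types false
universe u

open CategoryTheory CategoryTheory.Limits Opposite TopologicalSpace HomologicalComplex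

namespace GrothLib.CechHyper25

variable {X : TopCat.{u}} {ι : Type u} (U : ι → Opens X)

/-- Sections over the whole space, in degree zero. -/
noncomputable abbrev glob0 : ((Opens X)ᵒᵖ ⥤ AddCommGrpCat.{u}) ⥤ CochainComplex AddCommGrpCat.{u} ℕ :=
  (evaluation (Opens X)ᵒᵖ AddCommGrpCat.{u}).obj (op ⊤) ⋙ CochainComplex.single₀ AddCommGrpCat.{u}

/-- The augmentation in degree zero. -/
noncomputable def aug0 (P : (Opens X)ᵒᵖ ⥤ AddCommGrpCat.{u}) :
    P.obj (op ⊤) ⟶ (Cech.cx U P).X 0 :=
  Pi.lift (f := fun a : Fin (0 + 1) → ι => P.obj (op (Cech.obj U a))) fun a =>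
    P.map (homOfLE (le_top : Cech.obj U a ≤ ⊤)).op

lemma ev_aug0 (P : (Opens X)ᵒᵖ ⥤ AddCommGrpCat.{u}) (a : Fin (0 + 1) → ι) (t : P.obj (op ⊤)) :
    Cech.ev U P a (aug0 U P t) = P.map (homOfLE (le_top : Cech.obj U a ≤ ⊤)).op t :=
  ConcreteCategory.congr_hom (Pi.lift_π
    (fun a : Fin (0 + 1) → ι => P.map (homOfLE (le_top : Cech.obj U a ≤ ⊤)).op) a) t

lemma aug0_d (P : (Opens X)ᵒᵖ ⥤ AddCommGrpCat.{u}) : aug0 U P ≫ (Cech.cx U P).d 0 1 = 0 := by
  refine AddCommGrpCat.ext fun t => Cech.ext U P fun a => ?_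
  rw [ConcreteCategory.comp_apply, Cech.ev_d]
  refine (Fin.sum_univ_two _).trans ?_
  simp only [ev_aug0, Fin.val_zero, Fin.val_one, pow_zero, pow_one, one_smul]
  refine Eq.trans ?_ (map_zero (Cech.ev U P a).hom).symm
  rw [neg_smul, one_smul, add_neg_eq_zero, ← ConcreteCategory.comp_apply, ← ConcreteCategory.comp_apply,
    ← P.map_comp, ← P.map_comp]
  exact congrArg (fun g => P.map g t) (Quiver.Hom.unop_inj (Subsingleton.elim _ _))

/-- The augmentation of the Cech complex. -/
noncomputable def augCx (P : (Opens X)ᵒᵖ ⥤ AddCommGrpCat.{u}) :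
    glob0.obj P ⟶ (cechComplexFunctor U).obj P :=
  ((Cech.cx U P).fromSingle₀Equiv (P.obj (op ⊤))).symm ⟨aug0 U P, aug0_d U P⟩

lemma augCx_f_zero (P : (Opens X)ᵒᵖ ⥤ AddCommGrpCat.{u}) : (augCx U P).f 0 = aug0 U P :=
  CochainComplex.fromSingle₀Equiv_symm_apply_f_zero _ _

/-- The augmentation is natural. -/
noncomputable def augNat : (glob0 : ((Opens X)ᵒᵖ ⥤ AddCommGrpCat.{u}) ⥤ _) ⟶ cechComplexFunctor U where
  app := augCx U
  naturality P Q g := by
    refine HomologicalComplex.from_single_hom_ext ?_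
    refine (HomologicalComplex.comp_f _ _ 0).trans (Eq.trans ?_ (HomologicalComplex.comp_f _ _ 0).symm)
    rw [augCx_f_zero, augCx_f_zero]
    refine AddCommGrpCat.ext fun t => Cech.ext U Q fun a => ?_
    change Cech.ev U Q a (aug0 U Q ((CochainComplex.single₀ _).map (g.app (op ⊤)) |>.f 0 t)) =
      Cech.ev U Q a (((cechComplexFunctor U).map g).f 0 (aug0 U P t))
    rw [ev_map_psh, ev_aug0, ev_aug0, CochainComplex.single₀_map_f_zero]
    exact (NatTrans.naturality_apply g _ t).symm

/-- For a cover and an injective sheaf the augmentation is a quasi-isomorphism. -/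
theorem quasiIso_augCx (hcov : iSup U = ⊤) (F : CohTop.Ab X) [Injective F] :
    QuasiIso (augCx U F.obj) := by
  refine ⟨fun n => ?_⟩
  cases n with
  | zero =>
    rw [CochainComplex.quasiIsoAt₀_iff, ShortComplex.quasiIso_iff_of_zeros]
    rotate_left
    · rfl
    · rfl
    · simp
    refine ⟨?_, ?_⟩
    · refine (ShortComplex.ab_exact_iff _).2 fun (x : (Cech.cx U F.obj).X 0) hx => ?_
      have h := GrothLib.CechTot19.isIso_liftCycles_aug U hcov F
      obtain ⟨t, ht⟩ := (ConcreteCategory.bijective_of_isIso (((GrothLib.CechTot19.cF U).obj F).liftCycles _ 1 _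
        (Cech.aug_d (𝟭 (Opens X)) U (GrothLib.CechTot19.inc U) (fun _ _ _ _ _ => Subsingleton.elim _ _) F))).2
          ((GrothLib.CechTot19.toCyc ((GrothLib.CechTot19.cF U).obj F) 0).hom ⟨x, hx⟩)
      refine ⟨t, ?_⟩
      have h2 : (((GrothLib.CechTot19.cF U).obj F).iCycles 0).hom
          ((GrothLib.CechTot19.toCyc ((GrothLib.CechTot19.cF U).obj F) 0).hom ⟨x, hx⟩) = x :=
        GrothLib.CechTot19.iCycles_toCyc ((GrothLib.CechTot19.cF U).obj F) 0 ⟨x, hx⟩
      have h3 : Cech.aug (𝟭 (Opens X)) U (GrothLib.CechTot19.inc U) F t = x :=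
        ((ConcreteCategory.congr_hom (liftCycles_i _ _ _ _ _) t).symm.trans
          (congrArg (((GrothLib.CechTot19.cF U).obj F).iCycles 0).hom ht)).trans h2
      refine Eq.trans ?_ h3
      refine (congrArg (fun φ => φ t) (augCx_f_zero U F.obj)).trans ?_
      refine Cech.ext U F.obj fun a => ?_
      refine (ev_aug0 U F.obj a t).trans ?_
      refine Eq.trans ?_ (Cech.ev_aug (𝟭 (Opens X)) U (GrothLib.CechTot19.inc U) F a t).symm
      exact congrArg (fun g => F.obj.map g t) (Quiver.Hom.unop_inj (Subsingleton.elim _ _))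
    · refine (AddCommGrpCat.mono_iff_injective _).2 fun t t' htt => ?_
      change (augCx U F.obj).f 0 t = (augCx U F.obj).f 0 t' at htt
      rw [augCx_f_zero] at htt
      have hi : Function.Injective (((GrothLib.CechTot19.cF U).obj F).liftCycles _ 1 (by simp)
          (Cech.aug_d (𝟭 (Opens X)) U (GrothLib.CechTot19.inc U) (fun _ _ _ _ _ => Subsingleton.elim _ _) F)) :=
        haveI := GrothLib.CechTot19.isIso_liftCycles_aug U hcov F
        (ConcreteCategory.bijective_of_isIso _).1
      refine hi ((AddCommGrpCat.mono_iff_injective (((GrothLib.CechTot19.cF U).obj F).iCycles 0)).1 inferInstance ?_)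
      refine (ConcreteCategory.congr_hom (liftCycles_i _ _ _ _ _) t).trans (Eq.trans ?_
        (ConcreteCategory.congr_hom (liftCycles_i _ _ _ _ _) t').symm)
      refine Cech.ext U F.obj fun a => ?_
      have h := congrArg (Cech.ev U F.obj a) htt
      replace h := (ev_aug0 U F.obj a t).symm.trans (h.trans (ev_aug0 U F.obj a t'))
      refine (Cech.ev_aug (𝟭 (Opens X)) U (GrothLib.CechTot19.inc U) F a t).trans
        (Eq.trans ?_ (Cech.ev_aug (𝟭 (Opens X)) U (GrothLib.CechTot19.inc U) F a t').symm)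
      rw [show ((𝟭 (Opens X)).map (Pi.π (fun k => U (a k)) 0) ≫ GrothLib.CechTot19.inc U (a 0)) =
        homOfLE (le_top : Cech.obj U a ≤ ⊤) from Subsingleton.elim _ _]
      exact h
  | succ n =>
    rw [quasiIsoAt_iff_exactAt _ _ (CochainComplex.exactAt_succ_single_obj _ n)]
    · exact (exactAt_iff_isZero_homology _ _).2 (Cech.isZero_cechH_injective U F n)

end GrothLib.CechHyper25
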