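import Groth.Agent.Lib.Cech.Basic
import Mathlib.Algebra.Homology.ShortComplex.Ab
import Mathlib.Algebra.Homology.ShortComplex.ExactFunctor
import Mathlib.Algebra.Category.Grp.AB
import Mathlib.Algebra.Category.Grp.Zero

/-! # Exactness of the terms of the Cech complex functor -/

set_option autoImplicit false
set_option linter.all false
set_option backward.isDefEq.respectTransparency false
universe u

open CategoryTheory CategoryTheory.Limits Opposite

namespace GrothLib.CechHyper25

variable {D : Type u} [SmallCategory D] [HasFiniteProducts D] {ι : Type u} (U : ι → D)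

/-- Cochains of degree `p`, as a functor of the presheaf. -/
noncomputable abbrev cDeg (p : ℕ) : (Dᵒᵖ ⥤ AddCommGrpCat.{u}) ⥤ AddCommGrpCat.{u} :=
  cechComplexFunctor U ⋙ HomologicalComplex.eval AddCommGrpCat.{u} (ComplexShape.up ℕ) p

lemma ev_map_psh {P Q : Dᵒᵖ ⥤ AddCommGrpCat.{u}} (g : P ⟶ Q) {n : ℕ} (a : Fin (n + 1) → ι)
    (x : (Cech.cx U P).X n) :
    Cech.ev U Q a (((cechComplexFunctor U).map g).f n x) = g.app (op (Cech.obj U a)) (Cech.ev U P a x) :=
  ConcreteCategory.congr_hom (Limits.Pi.map_π (fun a : Fin (n + 1) → ι => g.app (op (Cech.obj U a))) a) x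

instance cechComplexFunctor_additive : (cechComplexFunctor (A := AddCommGrpCat.{u}) U).Additive where
  map_add {P Q} f g := by
    refine HomologicalComplex.hom_ext _ _ fun n => AddCommGrpCat.ext fun x => Cech.ext U Q fun a => ?_
    change Cech.ev U Q a (((cechComplexFunctor U).map (f + g)).f n x) =
      Cech.ev U Q a (((cechComplexFunctor U).map f).f n x + ((cechComplexFunctor U).map g).f n x)
    rw [map_add, ev_map_psh, ev_map_psh, ev_map_psh]
    rfl

theorem preservesHomology_cDeg (p : ℕ) : (cDeg U p).PreservesHomology := by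
  refine Functor.preservesHomology_of_map_exact _ fun S hS => ?_
  rw [ShortComplex.ab_exact_iff]
  intro x hx
  have hV : ∀ V, ∀ y : S.X₂.obj V, S.g.app V y = 0 → ∃ z, S.f.app V z = y := fun V =>
    (ShortComplex.ab_exact_iff _).1 (hS.map ((evaluation Dᵒᵖ AddCommGrpCat.{u}).obj V))
  have h : ∀ a : Fin (p + 1) → ι, S.g.app _ (Cech.ev U S.X₂ a x) = 0 := fun a =>
    (ev_map_psh U S.g a x).symm.trans ((congrArg (Cech.ev U S.X₃ a) hx).trans (map_zero _))
  choose z hz using fun a => hV (op (Cech.obj U a)) (Cech.ev U S.X₂ a x) (h a)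
  refine ⟨Cech.mk U S.X₁ z, Cech.ext U _ fun a => ?_⟩
  refine (ev_map_psh U S.f a _).trans ?_
  rw [Cech.ev_mk]
  exact hz a

theorem preservesFiniteLimits_cDeg (p : ℕ) : PreservesFiniteLimits (cDeg U p) :=
  haveI := preservesHomology_cDeg U p
  (cDeg U p).preservesFiniteLimits_of_preservesHomology

lemma isZero_cDeg_obj {P : Dᵒᵖ ⥤ AddCommGrpCat.{u}} (p : ℕ)
    (h : ∀ a : Fin (p + 1) → ι, Subsingleton (P.obj (op (Cech.obj U a)))) : IsZero ((cDeg U p).obj P) := by
  haveI : Subsingleton ((cDeg U p).obj P) := ⟨fun x y => Cech.ext U P fun a => (h a).elim _ _⟩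
  exact AddCommGrpCat.isZero_of_subsingleton _

end GrothLib.CechHyper25
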