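import Groth.Agent.Lib.CechHyper25.Aug
import Groth.Agent.Lib.CechTot19.HDU
import Groth.Agent.Lib.TotalRows19.Basic
import Groth.Agent.Lib.GrothSS.Acyclic
import Groth.Agent.Lib.GrothSS.Site
import Groth.Prelude.Def_CechTot
import Mathlib.Algebra.Homology.TotalComplexSymmetry
import Mathlib.Algebra.Homology.DerivedCategory.DerivabilityStructureInjectives

/-! # Cech hypercohomology of a complex of acyclic sheaves -/

set_option autoImplicit false
set_option linter.all false
set_option backward.isDefEq.respectTransparency false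
set_option backward.isDefEq.respectTransparency.types false
universe v u

open CategoryTheory CategoryTheory.Limits Opposite TopologicalSpace

namespace GrothLib.CechHyper25

section DegreeWise

open HomologicalComplex

variable {A : Type*} [Category A] [Abelian A] {κ ι' : Type*} (c : ComplexShape κ) (c' : ComplexShape ι')

/-- A map of complexes of complexes is a quasi-isomorphism when it is one in each inner degree. -/
theorem quasiIso_of_eval {K L : HomologicalComplex (HomologicalComplex A c') c} (φ : K ⟶ L)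
    (h : ∀ p, QuasiIso (((HomologicalComplex.eval A c' p).mapHomologicalComplex c).map φ)) :
    QuasiIso φ := by
  refine ⟨fun n => ?_⟩
  rw [quasiIsoAt_iff_isIso_homologyMap]
  let ψ := (HomologicalComplex.shortComplexFunctor (HomologicalComplex A c') c n).map φ
  have key : ∀ p, IsIso ((HomologicalComplex.eval A c' p).map (ShortComplex.homologyMap ψ)) := by
    intro p
    let E := HomologicalComplex.eval A c' p
    haveI := h p
    haveI : IsIso (ShortComplex.homologyMap (E.mapShortComplex.map ψ)) :=
      inferInstanceAs (IsIso (HomologicalComplex.homologyMap ((E.mapHomologicalComplex c).map φ) n))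
    haveI : IsIso (((K.sc n).mapHomologyIso E).hom ≫ E.map (ShortComplex.homologyMap ψ)) := by
      rw [← ShortComplex.mapHomologyIso_hom_naturality ψ E]
      infer_instance
    exact IsIso.of_isIso_comp_left ((K.sc n).mapHomologyIso E).hom _
  change IsIso (ShortComplex.homologyMap ψ)
  haveI : ∀ p, IsIso ((ShortComplex.homologyMap ψ).f p) := key
  exact HomologicalComplex.Hom.isIso_of_components _

end DegreeWise

variable {X : TopCat.{u}} {ι : Type u} (U : ι → Opens X)

/-- Underlying presheaves. -/
noncomputable abbrev toPre (X : TopCat.{u}) : CohTop.Ab X ⥤ ((Opens X)ᵒᵖ ⥤ AddCommGrpCat.{u}) :=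
  sheafToPresheaf (Opens.grothendieckTopology X) AddCommGrpCat.{u}

/-- The Cech complex extended to all degrees. -/
noncomputable abbrev cExt : ((Opens X)ᵒᵖ ⥤ AddCommGrpCat.{u}) ⥤ CochainComplex AddCommGrpCat.{u} ℤ :=
  cechComplexFunctor U ⋙ ComplexShape.embeddingUpNat.extendFunctor AddCommGrpCat.{u}

lemma isAcyclicObj_cDeg [EnoughInjectives (CohTop.Ab X)] (p : ℕ) (F : CohTop.Ab X)
    (h : ∀ (a : Fin (p + 1) → ι) (q : ℕ), Subsingleton (CohTop.HU F (q + 1) (iInf fun k => U (a k)))) :
    GrothSS.IsAcyclicObj (toPre X ⋙ cDeg U p) F := by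
  intro k
  haveI := preservesHomology_cDeg U p
  refine IsZero.of_iso (isZero_cDeg_obj U p fun a => ?_)
    (SheafCoh.rightDerivedCompIso (toPre X ⋙ cDeg U p) (cDeg U p) (Iso.refl _) F (k + 1))
  have := h a k
  rw [← Cech.obj_eq_iInf] at this
  exact this

variable (K I : CochainComplex (CohTop.Ab X) ℤ)

/-- Columnwise quasi-isomorphism. -/
theorem quasiIso_cech₂_map (i : K ⟶ I) [QuasiIso i] (a : ℤ) [K.IsStrictlyGE a] [I.IsStrictlyGE a]
    [∀ q, Injective (I.X q)]
    (h : ∀ (p : ℕ) (c : Fin (p + 1) → ι) (q : ℤ) (r : ℕ),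
      Subsingleton (CohTop.HU (K.X q) (r + 1) (iInf fun k => U (c k)))) :
    QuasiIso (((cExt U).mapHomologicalComplex (ComplexShape.up ℤ)).map ((CechTot.presheafCx X).map i)) := by
  refine quasiIso_of_eval _ _ _ fun p' => ?_
  by_cases hp : 0 ≤ p'
  · obtain ⟨p, rfl⟩ : ∃ p : ℕ, (p : ℤ) = p' := ⟨p'.toNat, Int.toNat_of_nonneg hp⟩
    haveI := preservesFiniteLimits_cDeg U p
    haveI hq : QuasiIso (((toPre X ⋙ cDeg U p).mapHomologicalComplex (ComplexShape.up ℤ)).map i) :=
      GrothSS.quasiIso_map (toPre X ⋙ cDeg U p) i a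
        (fun q => isAcyclicObj_cDeg U p _ fun c r => h p c q r)
        (fun q => GrothSS.isAcyclicObj_of_injective _ _)
    let e : toPre X ⋙ cDeg U p ≅ toPre X ⋙ cExt U ⋙ HomologicalComplex.eval _ _ (p : ℤ) :=
      NatIso.ofComponents (fun F => (HomologicalComplex.extendXIso ((cechComplexFunctor U).obj F.obj)
        ComplexShape.embeddingUpNat (i := p) (i' := (p : ℤ)) rfl).symm) (fun {F G} f => by
          simp [ComplexShape.Embedding.extendFunctor, HomologicalComplex.extendMap_f _ _ (show ComplexShape.embeddingUpNat.f p = (p : ℤ) from rfl)]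
          )
    let M := NatIso.mapHomologicalComplex e (ComplexShape.up ℤ)
    exact quasiIso_of_arrow_mk_iso
      (((toPre X ⋙ cDeg U p).mapHomologicalComplex (ComplexShape.up ℤ)).map i) _
      (Arrow.isoMk (M.app K) (M.app I) (M.hom.naturality i).symm)
  · have hz : ∀ P : (Opens X)ᵒᵖ ⥤ AddCommGrpCat.{u}, IsZero (((cExt U).obj P).X p') := fun P =>
      HomologicalComplex.isZero_extend_X _ _ _ fun j hj => hp (hj ▸ Int.natCast_nonneg j)
    refine ⟨fun n => ?_⟩
    rw [quasiIsoAt_iff_exactAt] <;> exact ShortComplex.exact_of_isZero_X₂ _ (hz _)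

/-- The double complex of global sections, concentrated in inner degree `0`. -/
noncomputable abbrev globExt : ((Opens X)ᵒᵖ ⥤ AddCommGrpCat.{u}) ⥤ CochainComplex AddCommGrpCat.{u} ℤ :=
  glob0 ⋙ ComplexShape.embeddingUpNat.extendFunctor AddCommGrpCat.{u}

/-- The double complex of global sections. -/
noncomputable abbrev glob₂ : HomologicalComplex₂ AddCommGrpCat.{u} (ComplexShape.up ℤ) (ComplexShape.up ℤ) :=
  (globExt.mapHomologicalComplex (ComplexShape.up ℤ)).obj ((CechTot.presheafCx X).obj I)

lemma isZero_glob₂ (q p : ℤ) (hp : p ≠ 0) : IsZero (((glob₂ I).X q).X p) := by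
  by_cases h : 0 ≤ p
  · obtain ⟨j, rfl⟩ : ∃ j : ℕ, (j : ℤ) = p := ⟨p.toNat, Int.toNat_of_nonneg h⟩
    exact (HomologicalComplex.isZero_single_obj_X (ComplexShape.up ℕ) 0 _ j
      (by rintro rfl; exact hp rfl)).of_iso
        (HomologicalComplex.extendXIso _ ComplexShape.embeddingUpNat (i := j) rfl)
  · exact HomologicalComplex.isZero_extend_X _ _ _ fun j hj => h (hj ▸ Int.natCast_nonneg j)

/-- The isomorphism in the only nonzero inner degree. -/
noncomputable def glob₂XIso (q : ℤ) : (CechTot19.glob I).X q ≅ ((glob₂ I).X q).X 0 :=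
  (HomologicalComplex.singleObjXSelf (ComplexShape.up ℕ) 0 _).symm ≪≫
    (HomologicalComplex.extendXIso _ ComplexShape.embeddingUpNat (i := 0) rfl).symm

lemma glob₂XIso_d (q q' : ℤ) :
    (glob₂XIso I q).hom ≫ ((glob₂ I).d q q').f 0 = (CechTot19.glob I).d q q' ≫ (glob₂XIso I q').hom := by
  simp [glob₂XIso, ComplexShape.Embedding.extendFunctor,
    HomologicalComplex.extendMap_f _ _ (show ComplexShape.embeddingUpNat.f 0 = (0 : ℤ) from rfl)]
  exact Iso.inv_hom_id_assoc _ _

/-- The total complex of the double complex of global sections. -/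
noncomputable def totGlobIso : (glob₂ I).total (ComplexShape.up ℤ) ≅ CechTot19.glob I :=
  (HomologicalComplex.Hom.isoOfComponents
    (fun n =>
      { hom := (glob₂XIso I n).hom ≫ (glob₂ I).ιTotal (ComplexShape.up ℤ) n 0 n (add_zero n)
        inv := (glob₂ I).totalDesc fun q p hqp =>
          if h : p = 0 then eqToHom (by
            subst h; obtain rfl : q = n := (add_zero q).symm.trans hqp; rfl) ≫ (glob₂XIso I n).inv else 0
        hom_inv_id := by simp
        inv_hom_id := by
          refine HomologicalComplex₂.total.hom_ext _ fun q p hqp => ?_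
          by_cases hp : p = 0
          · subst hp
            obtain rfl : q = n := (add_zero q).symm.trans hqp
            simp
          · exact (isZero_glob₂ I q p hp).eq_of_src _ _ })
    (fun n m hnm => by
      change n + 1 = m at hnm
      change ((glob₂XIso I n).hom ≫ (glob₂ I).ιTotal (ComplexShape.up ℤ) n 0 n (add_zero n)) ≫ _ = _
      rw [Category.assoc, HomologicalComplex₂.total_d, Preadditive.comp_add, HomologicalComplex₂.ι_D₁,
        HomologicalComplex₂.ι_D₂, HomologicalComplex₂.d₁_eq _ _ hnm 0 m (by change m + 0 = m; omega),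
        HomologicalComplex₂.d₂_eq _ _ n (show (ComplexShape.up ℤ).Rel 0 1 from rfl) m hnm,
        (isZero_glob₂ I n 1 one_ne_zero).eq_of_tgt (((glob₂ I).X n).d 0 1) 0, zero_comp, smul_zero, add_zero]
      simp [ComplexShape.ε₁]
      exact ((Category.assoc _ _ _).symm.trans (congrArg (· ≫ _) (glob₂XIso_d I n m))).trans
        (Category.assoc _ _ _))).symm

/-- The map from the double complex of global sections. -/
noncomputable def augHom : glob₂ I ⟶
    ((cExt U).mapHomologicalComplex (ComplexShape.up ℤ)).obj ((CechTot.presheafCx X).obj I) :=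
  (NatTrans.mapHomologicalComplex
    (Functor.whiskerRight (augNat U) (ComplexShape.embeddingUpNat.extendFunctor AddCommGrpCat.{u}))
    (ComplexShape.up ℤ)).app ((CechTot.presheafCx X).obj I)

theorem quasiIso_flip_aug (hcov : iSup U = ⊤) [∀ q, Injective (I.X q)] :
    QuasiIso ((HomologicalComplex₂.flipFunctor AddCommGrpCat.{u} (ComplexShape.up ℤ) (ComplexShape.up ℤ)).map
      (augHom U I)) := by
  refine quasiIso_of_eval _ _ _ fun q => ?_
  haveI := quasiIso_augCx U hcov (I.X q)
  haveI h : QuasiIso (HomologicalComplex.extendMap (augCx U (I.X q).obj) ComplexShape.embeddingUpNat) :=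
    (HomologicalComplex.quasiIso_extendMap_iff _ _).2 inferInstance
  exact h

lemma isZero_cech₂ (a : ℤ) (L : CochainComplex (CohTop.Ab X) ℤ) [L.IsStrictlyGE a] (q p : ℤ)
    (h : q < a ∨ p < 0) : IsZero (((CechTot.cech₂ U ((CechTot.presheafCx X).obj L)).X q).X p) := by
  rcases h with h | h
  · haveI : (cExt U).PreservesZeroMorphisms := inferInstance
    exact (HomologicalComplex.eval _ _ p).map_isZero ((cExt U).map_isZero
      ((sheafToPresheaf (Opens.grothendieckTopology X) AddCommGrpCat.{u}).map_isZero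
        (L.isZero_of_isStrictlyGE a q h)))
  · exact HomologicalComplex.isZero_extend_X _ _ _ fun j hj => by
      change (j : ℤ) = p at hj
      omega

lemma isZero_glob₂' (a : ℤ) [I.IsStrictlyGE a] (q p : ℤ) (h : q < a ∨ p < 0) :
    IsZero (((glob₂ I).X q).X p) := by
  rcases h with h | h
  · refine (HomologicalComplex.eval _ _ p).map_isZero (globExt.map_isZero ?_)
    exact (sheafToPresheaf (Opens.grothendieckTopology X) AddCommGrpCat.{u}).map_isZero
        (I.isZero_of_isStrictlyGE a q h)
  · exact isZero_glob₂ I q p (by omega)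

/-- Two surjections with the same kernel have isomorphic targets. -/
theorem nonempty_addEquiv_of_ker {G A B : Type*} [AddCommGroup G] [AddCommGroup A] [AddCommGroup B]
    (f : G →+ A) (g : G →+ B) (hf : Function.Surjective f) (hg : Function.Surjective g)
    (h : ∀ x, f x = 0 ↔ g x = 0) : Nonempty (A ≃+ B) :=
  ⟨(QuotientAddGroup.quotientKerEquivOfSurjective f hf).symm.trans
    ((QuotientAddGroup.quotientAddEquivOfEq (AddSubgroup.ext fun x => h x)).trans
      (QuotientAddGroup.quotientKerEquivOfSurjective g hg))⟩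

theorem nonempty_glob_homology_addEquiv [HasDerivedCategory.{u} (CohTop.Ab X)] [I.IsKInjective]
    {L : DerivedCategory (CohTop.Ab X)} (e : DerivedCategory.Q.obj I ≅ L) (n : ℤ) :
    Nonempty ((CechTot19.glob I).homology n ≃+ CohCx.HDU L n (⊤ : Opens X)) := by
  let M := CechTot19.glob I
  let S := M.sc' (n - 1) n (n + 1)
  let j : M.homology n ≅ S.homology := M.homologyIsoSc' (n - 1) n (n + 1) (by simp) (by simp)
  obtain ⟨e'⟩ := nonempty_addEquiv_of_ker (G := CechTot19.Cyc I n (⊤ : Opens X))
    (QuotientAddGroup.mk' (AddMonoidHom.range S.abToCycles)) (CechTot19.toHDU e n (⊤ : Opens X))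
    (QuotientAddGroup.mk'_surjective _) (CechTot19.toHDU_surjective e n _)
    (fun x => by
      refine (QuotientAddGroup.eq_zero_iff x).trans ?_
      rw [CechTot19.toHDU_eq_zero_iff]
      exact ⟨fun ⟨t, ht⟩ => ⟨t, congrArg Subtype.val ht⟩, fun ⟨t, ht⟩ => ⟨t, Subtype.ext ht⟩⟩)
  exact ⟨((j ≪≫ S.abHomologyIso).addCommGroupIsoToAddEquiv).trans e'⟩

/-- Cech hypercohomology computes hypercohomology for complexes of acyclic sheaves. -/
theorem nonempty_hyperH_addEquiv [HasDerivedCategory.{u} (CohTop.Ab X)] (hcov : iSup U = ⊤) (a : ℤ)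
    [K.IsStrictlyGE a]
    (h : ∀ (p : ℕ) (c : Fin (p + 1) → ι) (q : ℤ) (r : ℕ),
      Subsingleton (CohTop.HU (K.X q) (r + 1) (iInf fun k => U (c k)))) (n : ℤ) :
    Nonempty (↑(CechTot.hyperH U ((CechTot.presheafCx X).obj K) n) ≃+
      CohCx.HDU (DerivedCategory.Q.obj K) n (⊤ : Opens X)) := by
  obtain ⟨I, i, hi, hI, hIge⟩ :=
    CochainComplex.Plus.modelCategoryQuillen.exists_quasiIso_injective K a
  haveI : I.IsKInjective := CochainComplex.isKInjective_of_injective I a
  haveI : IsIso (DerivedCategory.Q.map i) :=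
    (DerivedCategory.isIso_Q_map_iff_quasiIso _ i).2 inferInstance
  haveI := quasiIso_cech₂_map U K I i a h
  haveI : QuasiIso (HomologicalComplex₂.total.map
      (((cExt U).mapHomologicalComplex (ComplexShape.up ℤ)).map ((CechTot.presheafCx X).map i))
      (ComplexShape.up ℤ)) :=
    TotalRows19.quasiIso_total_map _ a 0 (fun q p hh => isZero_cech₂ U a K q p hh)
      (fun q p hh => isZero_cech₂ U a I q p hh)
  haveI := quasiIso_flip_aug U I hcov
  haveI : QuasiIso (HomologicalComplex₂.total.map
      ((HomologicalComplex₂.flipFunctor AddCommGrpCat.{u} (ComplexShape.up ℤ) (ComplexShape.up ℤ)).map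
        (augHom U I)) (ComplexShape.up ℤ)) :=
    TotalRows19.quasiIso_total_map _ 0 a (fun p q hh => isZero_glob₂' I a q p hh.symm)
      (fun p q hh => isZero_cech₂ U a I q p hh.symm)
  let i1 := isoOfQuasiIsoAt (HomologicalComplex₂.total.map
      (((cExt U).mapHomologicalComplex (ComplexShape.up ℤ)).map ((CechTot.presheafCx X).map i))
      (ComplexShape.up ℤ)) n
  let i2 := (HomologicalComplex.homologyFunctor _ _ n).mapIso
    (HomologicalComplex₂.totalFlipIso (CechTot.cech₂ U ((CechTot.presheafCx X).obj I)) (ComplexShape.up ℤ))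
  let i3 := isoOfQuasiIsoAt (HomologicalComplex₂.total.map
      ((HomologicalComplex₂.flipFunctor AddCommGrpCat.{u} (ComplexShape.up ℤ) (ComplexShape.up ℤ)).map
        (augHom U I)) (ComplexShape.up ℤ)) n
  let i4 := (HomologicalComplex.homologyFunctor _ _ n).mapIso
    (HomologicalComplex₂.totalFlipIso (glob₂ I) (ComplexShape.up ℤ) ≪≫ totGlobIso I)
  obtain ⟨g⟩ := nonempty_glob_homology_addEquiv I (asIso (DerivedCategory.Q.map i)).symm n
  exact ⟨((i1 ≪≫ i2.symm ≪≫ i3.symm ≪≫ i4).addCommGroupIsoToAddEquiv).trans g⟩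

end GrothLib.CechHyper25
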